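import Cfsg.Agent.FS.N.M.Flds

/-!
# The family `PGL3(4)` (helper44, project FS/N; generated)
-/

set_option autoImplicit false

namespace Cfsg.Agent.FS.N.M

open Cfsg Cfsg.Agent.FS.Real

namespace P34

/-- the family -/
noncomputable abbrev Φ : Fam ff4 (Equiv.refl (Fin 3)) := famGL ff4 3

/-- test elements -/
def ts : List (ℕ × ℕ) := [(0x10105, 0x10105),
  (0x10141, 0x10141),
  (0x10109, 0x10109),
  (0x10501, 0x10501),
  (0x14101, 0x14101)]

/-- the model of the ambient group -/
noncomputable abbrev MA := mAut ff4 (Equiv.refl (Fin 3)) ts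

theorem hH : Nat.card Φ.H ∣ 181440 :=
  (card_famGL ff4 3 4 181440 (by decide +kernel) (by decide +kernel)).dvd

theorem hB : Nat.card Φ.N * 2 ^ 0 ∣ 181440 :=
  (mul_one _).dvd.trans (Φ.card_N_dvd.trans hH)

end P34

end Cfsg.Agent.FS.N.M
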