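import Cfsg.Agent.FS.N.M.Flds

/-!
# The family `L4(5)` (helper44, project FS/N; generated)
-/

set_option autoImplicit false

namespace Cfsg.Agent.FS.N.M

open Cfsg Cfsg.Agent.FS.Real

namespace L45

/-- the family -/
noncomputable abbrev Φ : Fam f5_1 (Equiv.refl (Fin 4)) := famSL f5_1 4

/-- test elements -/
def ts : List (ℕ × ℕ) := [(0x200040008009, 0x200040008021),
  (0x200040009001, 0x20004000c001),
  (0x200040008009, 0x200040008021),
  (0x200040048001, 0x200040108001),
  (0x200240008001, 0x200840008001),
  (0x200048008001, 0x200060008001),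
  (0x240040008001, 0x300040008001)]

/-- the model of the ambient group -/
noncomputable abbrev MA := mAut f5_1 (Equiv.refl (Fin 4)) ts

theorem hH : Nat.card Φ.H ∣ 29016000000 :=
  (card_famSL f5_1 4 5 29016000000 (by decide) (by decide +kernel) (by decide +kernel)).dvd

theorem hB : Nat.card Φ.N * 2 ^ 2 ∣ 29016000000 :=
  (Φ.card_N_mul (s := 2) (s' := 3) (f := 1) (by decide +kernel)).trans hH

end L45

end Cfsg.Agent.FS.N.M
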