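import Cfsg.Agent.FS.N.M.Flds

/-!
# The family `G2(9)` (helper44, project FS/N; generated)
-/

set_option autoImplicit false

namespace Cfsg.Agent.FS.N.M

open Cfsg Cfsg.Agent.FS.Real

namespace G29

/-- the family -/
noncomputable abbrev Φ : Fam f3_2 (Equiv.refl (Fin 8)) := famG2 f3_2

/-- test elements -/
def ts : List (ℕ × ℕ) := [(0x1000000001000000001000000001000000001000000001000000001000000011, 0x1000000001000000001000000001000000001000000001000000001000000021),
  (0x1000000001000000001000000001000000001000000001000000011000000001, 0x1000000001000000001000000001000000001000000001000000021000000001),
  (0x1000000001000000001000000001000000001000000011000000001000000001, 0x1000000001000000001000000001000000001000000021000000001000000001),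
  (0x1000000001000000001000000001000000011000000001000000001000000001, 0x1000000001000000001000000001000000021000000001000000001000000001),
  (0x1000000001000000001000000011000000001000000001000000001000000001, 0x1000000001000000001000000021000000001000000001000000001000000001),
  (0x1000000001000000011000000001000000001000000001000000001000000001, 0x1000000001000000021000000001000000001000000001000000001000000001),
  (0x1000000011000000001000000001000000001000000001000000001000000001, 0x1000000021000000001000000001000000001000000001000000001000000001),
  (0x1000000001000000001000000001000000001000000001000000001100000001, 0x1000000001000000001000000001000000001000000001000000001200000001),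
  (0x1000000001000000001000000001000000001000000001100000001000000001, 0x1000000001000000001000000001000000001000000001200000001000000001),
  (0x1000000001000000001000000001000000001100000001000000001000000001, 0x1000000001000000001000000001000000001200000001000000001000000001),
  (0x1000000001000000001000000001100000001000000001000000001000000001, 0x1000000001000000001000000001200000001000000001000000001000000001),
  (0x1000000001000000001100000001000000001000000001000000001000000001, 0x1000000001000000001200000001000000001000000001000000001000000001),
  (0x1000000001100000001000000001000000001000000001000000001000000001, 0x1000000001200000001000000001000000001000000001000000001000000001),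
  (0x1100000001000000001000000001000000001000000001000000001000000001, 0x1200000001000000001000000001000000001000000001000000001000000001),
  (0x1000000001000000001000000001000000001000000001000000001000000041, 0x1000000001000000001000000001000000001000000001000000001000000081)]

/-- the model of the ambient group -/
noncomputable abbrev MA := mAut f3_2 (Equiv.refl (Fin 8)) ts

theorem hH : Nat.card Φ.H ∣ 22594320403200 :=
  (card_famG2 f3_2 9 (by decide +kernel)).dvd.trans (by decide +kernel)

theorem hB : Nat.card Φ.N * 2 ^ 0 ∣ 22594320403200 :=
  (mul_one _).dvd.trans (Φ.card_N_dvd.trans hH)

end G29

end Cfsg.Agent.FS.N.M
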