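import Cfsg.Agent.FS.N.M.Flds

/-!
# The family `L4(3)` (helper44, project FS/N; generated)
-/

set_option autoImplicit false

namespace Cfsg.Agent.FS.N.M

open Cfsg Cfsg.Agent.FS.Real

namespace L43

/-- the family -/
noncomputable abbrev Φ : Fam f3_1 (Equiv.refl (Fin 4)) := famSL f3_1 4

/-- test elements -/
def ts : List (ℕ × ℕ) := [(0x40100405, 0x40100409),
  (0x40100501, 0x40100601),
  (0x40100405, 0x40100409),
  (0x40101401, 0x40102401),
  (0x40500401, 0x40900401),
  (0x40140401, 0x40180401),
  (0x50100401, 0x60100401)]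

/-- the model of the ambient group -/
noncomputable abbrev MA := mAut f3_1 (Equiv.refl (Fin 4)) ts

theorem hH : Nat.card Φ.H ∣ 12130560 :=
  (card_famSL f3_1 4 3 12130560 (by decide) (by decide +kernel) (by decide +kernel)).dvd

theorem hB : Nat.card Φ.N * 2 ^ 1 ∣ 12130560 :=
  (Φ.card_N_mul (s := 2) (s' := 2) (f := 0) (by decide +kernel)).trans hH

end L43

end Cfsg.Agent.FS.N.M
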