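import Cfsg.Agent.FS.N.M.Flds

/-!
# The family `L2(81)` (helper44, project FS/N; generated)
-/

set_option autoImplicit false

namespace Cfsg.Agent.FS.N.M

open Cfsg Cfsg.Agent.FS.Real

namespace Lb

/-- the family -/
noncomputable abbrev Φ : Fam f3_4 (Equiv.refl (Fin 2)) := famSL f3_4 2

/-- test elements -/
def ts : List (ℕ × ℕ) := [(0x1000101, 0x1000201),
  (0x1010001, 0x1020001),
  (0x1001001, 0x1002001)]

/-- the model of the ambient group -/
noncomputable abbrev MA := mAut f3_4 (Equiv.refl (Fin 2)) ts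

theorem hH : Nat.card Φ.H ∣ 531360 :=
  (card_famSL f3_4 2 81 531360 (by decide) (by decide +kernel) (by decide +kernel)).dvd

theorem hB : Nat.card Φ.N * 2 ^ 1 ∣ 531360 :=
  (Φ.card_N_mul (s := 2) (s' := 2) (f := 0) (by decide +kernel)).trans hH

end Lb

end Cfsg.Agent.FS.N.M
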