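import Cfsg.Agent.FS.N.M.Flds

/-!
# The family `U3(625)` (helper44, project FS/N; generated)
-/

set_option autoImplicit false

namespace Cfsg.Agent.FS.N.M

open Cfsg Cfsg.Agent.FS.Real

namespace Qc

/-- the family -/
noncomputable abbrev Φ : Fam f5_8 (Equiv.refl (Fin 3)) := famSU f5_8 3 4

/-- test elements -/
def ts : List (ℕ × ℕ) := [(0x1000000000000000000000001000000000000000001000001, 0x1000000000000000000000001000000000000000004000001),
  (0x1000000000000000000000001000001000000000000000001, 0x1000000000000000000000001000004000000000000000001),
  (0x1000000000000000000000001000000000000001000000001, 0x1000000000000000000000001000000000000004000000001),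
  (0x1000000000000000001000001000000000000000000000001, 0x1000000000000000004000001000000000000000000000001),
  (0x1000001000000000000000001000000000000000000000001, 0x1000004000000000000000001000000000000000000000001)]

/-- the model of the ambient group -/
noncomputable abbrev MA := mAut f5_8 (Equiv.refl (Fin 3)) ts

theorem hH : Nat.card Φ.H ∣ 23283004856109375000000 :=
  card_famSU f5_8 3 4 625 23283004856109375000000 (by decide) (by decide +kernel) (by decide +kernel) (by decide +kernel)

theorem hB : Nat.card Φ.N * 2 ^ 0 ∣ 23283004856109375000000 :=
  (mul_one _).dvd.trans (Φ.card_N_dvd.trans hH)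

end Qc

end Cfsg.Agent.FS.N.M
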