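import Cfsg.Agent.FS.N.M.Flds

/-!
# The family `U3(289)` (helper44, project FS/N; generated)
-/

set_option autoImplicit false

namespace Cfsg.Agent.FS.N.M

open Cfsg Cfsg.Agent.FS.Real

namespace Qd

/-- the family -/
noncomputable abbrev Φ : Fam f17_4 (Equiv.refl (Fin 3)) := famSU f17_4 3 2

/-- test elements -/
def ts : List (ℕ × ℕ) := [(0x10000000000000000000100000000000000100001, 0x10000000000000000000100000000000001000001),
  (0x10000000000000000000100001000000000000001, 0x10000000000000000000100010000000000000001),
  (0x10000000000000000000100000000000040000001, 0x10000000000000000000100000000000400000001),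
  (0x10000000000000010000100000000000000000001, 0x10000000000000100000100000000000000000001),
  (0x10000100000000000000100000000000000000001, 0x10001000000000000000100000000000000000001)]

/-- the model of the ambient group -/
noncomputable abbrev MA := mAut f17_4 (Equiv.refl (Fin 3)) ts

theorem hH : Nat.card Φ.H ∣ 48660611269399401600 :=
  card_famSU f17_4 3 2 289 48660611269399401600 (by decide) (by decide +kernel) (by decide +kernel) (by decide +kernel)

theorem hB : Nat.card Φ.N * 2 ^ 0 ∣ 48660611269399401600 :=
  (mul_one _).dvd.trans (Φ.card_N_dvd.trans hH)

end Qd

end Cfsg.Agent.FS.N.M
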