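import Cfsg.Agent.FS.N.M.Flds

/-!
# The family `PSp4(3)` (helper44, project FS/N; generated)
-/

set_option autoImplicit false

namespace Cfsg.Agent.FS.N.M

open Cfsg Cfsg.Agent.FS.Real

namespace S43

/-- the family -/
noncomputable abbrev Φ : Fam f3_1 (finSumFinEquiv (m := 2) (n := 2)) := famSp f3_1 2

/-- test elements -/
def ts : List (ℕ × ℕ) := [(0x40100405, 0x40100409),
  (0x40100501, 0x40100601),
  (0x40100405, 0x40100409),
  (0x40101401, 0x40102401),
  (0x40500401, 0x40900401),
  (0x40140401, 0x40180401),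
  (0x50100401, 0x60100401)]

/-- the model of the ambient group -/
noncomputable abbrev MA := mAut f3_1 (finSumFinEquiv (m := 2) (n := 2)) ts

theorem hH : Nat.card Φ.H ∣ 51840 :=
  (card_famSp f3_1 2 3 (by decide +kernel)).trans (by decide +kernel)

theorem hB : Nat.card Φ.N * 2 ^ 1 ∣ 51840 :=
  (Φ.card_N_mul (s := 2) (s' := 2) (f := 0) (by decide +kernel)).trans hH

end S43

end Cfsg.Agent.FS.N.M
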