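import Cfsg.Agent.FS.N.M.Flds

/-!
# The family `Sp4(4)` (helper44, project FS/N; generated)
-/

set_option autoImplicit false

namespace Cfsg.Agent.FS.N.M

open Cfsg Cfsg.Agent.FS.Real

namespace S44

/-- the family -/
noncomputable abbrev Φ : Fam ff4 (finSumFinEquiv (m := 2) (n := 2)) := famSp ff4 2

/-- test elements -/
def ts : List (ℕ × ℕ) := [(0x40100405, 0x40100405),
  (0x40100501, 0x40100501),
  (0x40100409, 0x40100409),
  (0x40101401, 0x40101401),
  (0x40500401, 0x40500401),
  (0x40140401, 0x40140401),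
  (0x50100401, 0x50100401)]

/-- the model of the ambient group -/
noncomputable abbrev MA := mAut ff4 (finSumFinEquiv (m := 2) (n := 2)) ts

theorem hH : Nat.card Φ.H ∣ 979200 :=
  (card_famSp ff4 2 4 (by decide +kernel)).trans (by decide +kernel)

theorem hB : Nat.card Φ.N * 2 ^ 0 ∣ 979200 :=
  (mul_one _).dvd.trans (Φ.card_N_dvd.trans hH)

end S44

end Cfsg.Agent.FS.N.M
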