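import Cfsg.Agent.FS.N.M.Flds

/-!
# The family `PSp4(9)` (helper44, project FS/N; generated)
-/

set_option autoImplicit false

namespace Cfsg.Agent.FS.N.M

open Cfsg Cfsg.Agent.FS.Real

namespace S49

/-- the family -/
noncomputable abbrev Φ : Fam f3_2 (finSumFinEquiv (m := 2) (n := 2)) := famSp f3_2 2

/-- test elements -/
def ts : List (ℕ × ℕ) := [(0x1000010000100011, 0x1000010000100021),
  (0x1000010000110001, 0x1000010000120001),
  (0x1000010000100041, 0x1000010000100081),
  (0x1000010001100001, 0x1000010002100001),
  (0x1000110000100001, 0x1000210000100001),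
  (0x1000011000100001, 0x1000012000100001),
  (0x1100010000100001, 0x1200010000100001)]

/-- the model of the ambient group -/
noncomputable abbrev MA := mAut f3_2 (finSumFinEquiv (m := 2) (n := 2)) ts

theorem hH : Nat.card Φ.H ∣ 3443212800 :=
  (card_famSp f3_2 2 9 (by decide +kernel)).trans (by decide +kernel)

theorem hB : Nat.card Φ.N * 2 ^ 1 ∣ 3443212800 :=
  (Φ.card_N_mul (s := 2) (s' := 2) (f := 0) (by decide +kernel)).trans hH

end S49

end Cfsg.Agent.FS.N.M
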