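import Cfsg.Agent.FS.N.M.Flds

/-!
# The family `L3(5)` (helper44, project FS/N; generated)
-/

set_option autoImplicit false

namespace Cfsg.Agent.FS.N.M

open Cfsg Cfsg.Agent.FS.Real

namespace Wa

/-- the family -/
noncomputable abbrev Φ : Fam f5_1 (Equiv.refl (Fin 3)) := famSL f5_1 3

/-- test elements -/
def ts : List (ℕ × ℕ) := [(0x1001009, 0x1001021),
  (0x1001201, 0x1001801),
  (0x1001009, 0x1001021),
  (0x1009001, 0x1021001),
  (0x1201001, 0x1801001)]

/-- the model of the ambient group -/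
noncomputable abbrev MA := mAut f5_1 (Equiv.refl (Fin 3)) ts

theorem hH : Nat.card Φ.H ∣ 372000 :=
  (card_famSL f5_1 3 5 372000 (by decide) (by decide +kernel) (by decide +kernel)).dvd

theorem hB : Nat.card Φ.N * 2 ^ 0 ∣ 372000 :=
  (mul_one _).dvd.trans (Φ.card_N_dvd.trans hH)

end Wa

end Cfsg.Agent.FS.N.M
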