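import Cfsg.Agent.FS.N.M.Flds

/-!
# The family `L3(9)` (helper44, project FS/N; generated)
-/

set_option autoImplicit false

namespace Cfsg.Agent.FS.N.M

open Cfsg Cfsg.Agent.FS.Real

namespace Wb

/-- the family -/
noncomputable abbrev Φ : Fam f3_2 (Equiv.refl (Fin 3)) := famSL f3_2 3

/-- test elements -/
def ts : List (ℕ × ℕ) := [(0x100010011, 0x100010021),
  (0x100011001, 0x100012001),
  (0x100010041, 0x100010081),
  (0x100110001, 0x100210001),
  (0x110010001, 0x120010001)]

/-- the model of the ambient group -/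
noncomputable abbrev MA := mAut f3_2 (Equiv.refl (Fin 3)) ts

theorem hH : Nat.card Φ.H ∣ 42456960 :=
  (card_famSL f3_2 3 9 42456960 (by decide) (by decide +kernel) (by decide +kernel)).dvd

theorem hB : Nat.card Φ.N * 2 ^ 0 ∣ 42456960 :=
  (mul_one _).dvd.trans (Φ.card_N_dvd.trans hH)

end Wb

end Cfsg.Agent.FS.N.M
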