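import Cfsg.Agent.FS.N.M.Flds

/-!
# The family `L3(17)` (helper44, project FS/N; generated)
-/

set_option autoImplicit false

namespace Cfsg.Agent.FS.N.M

open Cfsg Cfsg.Agent.FS.Real

namespace Wc

/-- the family -/
noncomputable abbrev Φ : Fam f17_1 (Equiv.refl (Fin 3)) := famSL f17_1 3

/-- test elements -/
def ts : List (ℕ × ℕ) := [(0x10000100021, 0x10000100201),
  (0x10000108001, 0x10000180001),
  (0x10000100021, 0x10000100201),
  (0x10002100001, 0x10020100001),
  (0x10800100001, 0x18000100001)]

/-- the model of the ambient group -/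
noncomputable abbrev MA := mAut f17_1 (Equiv.refl (Fin 3)) ts

theorem hH : Nat.card Φ.H ∣ 6950204928 :=
  (card_famSL f17_1 3 17 6950204928 (by decide) (by decide +kernel) (by decide +kernel)).dvd

theorem hB : Nat.card Φ.N * 2 ^ 0 ∣ 6950204928 :=
  (mul_one _).dvd.trans (Φ.card_N_dvd.trans hH)

end Wc

end Cfsg.Agent.FS.N.M
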